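import Groth.Agent.Lib.Rigid19.Basic
import Groth.Agent.Lib.AbRigid.Maximal
import Mathlib.AlgebraicGeometry.AlgClosed.Basic

/-!
# Consequences of rigidity for anti-affine schemes and groups
-/

universe u

set_option backward.isDefEq.respectTransparency.types false
set_option linter.style.haveILetI false

open CategoryTheory Limits AlgebraicGeometry MonoidalCategory CartesianMonoidalCategory MonObj Opposite TopologicalSpace

namespace Groth.Agent.Rigid19

variable {k : Type u} [Field k] {X : Over (Spec (CommRingCat.of k))}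

theorem surjective_appTop
    (hX : Function.Bijective ((Scheme.ΓSpecIso (CommRingCat.of k)).inv ≫ X.hom.appTop).hom) :
    Function.Surjective X.hom.appTop.hom := fun y => ⟨_, (hX.2 y).choose_spec⟩

theorem nonempty_of_antiAffine
    (hX : Function.Bijective ((Scheme.ΓSpecIso (CommRingCat.of k)).inv ≫ X.hom.appTop).hom) : Nonempty X.left := by
  haveI : Nontrivial Γ(X.left, ⊤) := hX.1.nontrivial
  by_contra h
  haveI : IsEmpty X.left := not_nonempty_iff.mp h
  exact one_ne_zero (α := Γ(X.left, ⊤)) (Subsingleton.elim _ _)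

/-- A scheme with only constant functions is connected. -/
theorem connectedSpace_of_antiAffine
    (hX : Function.Bijective ((Scheme.ΓSpecIso (CommRingCat.of k)).inv ≫ X.hom.appTop).hom) : ConnectedSpace X.left := by
  haveI := nonempty_of_antiAffine hX
  refine { toNonempty := this, toPreconnectedSpace := preconnectedSpace_iff_clopen.mpr fun s hs => ?_ }
  by_contra h
  rw [not_or] at h
  obtain ⟨a, ha⟩ := Set.nonempty_iff_ne_empty.mpr h.1
  obtain ⟨b, hb⟩ := Set.nonempty_compl.mpr h.2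
  let U : X.left.Opens := ⟨s, hs.2⟩
  let V : X.left.Opens := ⟨sᶜ, hs.1.isOpen_compl⟩
  let W : ULift.{u} Bool → X.left.Opens := fun i => bif i.down then U else V
  let sf : ∀ i, Γ(X.left, W i) := fun i => bif i.down then 1 else 0
  have hcomp : TopCat.Presheaf.IsCompatible X.left.presheaf W sf := by
    rintro ⟨i⟩ ⟨j⟩
    rcases i with _ | _ <;> rcases j with _ | _
    · rfl
    · haveI : Subsingleton Γ(X.left, W ⟨false⟩ ⊓ W ⟨true⟩) := by
        rw [show W ⟨false⟩ ⊓ W ⟨true⟩ = ⊥ from Opens.ext (Set.compl_inter_self s)]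
        infer_instance
      exact Subsingleton.elim _ _
    · haveI : Subsingleton Γ(X.left, W ⟨true⟩ ⊓ W ⟨false⟩) := by
        rw [show W ⟨true⟩ ⊓ W ⟨false⟩ = ⊥ from Opens.ext (Set.inter_compl_self s)]
        infer_instance
      exact Subsingleton.elim _ _
    · rfl
  obtain ⟨e, he, -⟩ := X.left.sheaf.existsUnique_gluing' W ⊤ (fun i => homOfLE le_top) (fun x _ => by
    rw [Opens.mem_iSup]
    by_cases hx : x ∈ s
    · exact ⟨⟨true⟩, hx⟩
    · exact ⟨⟨false⟩, hx⟩) sf hcomp
  obtain ⟨c, rfl⟩ := hX.2 e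
  have key : ∀ (O : X.left.Opens) (x : X.left), x ∈ O → ∀ d : k,
      X.left.presheaf.map (homOfLE le_top : O ⟶ ⊤).op (((Scheme.ΓSpecIso (CommRingCat.of k)).inv ≫ X.hom.appTop).hom c) =
        X.left.presheaf.map (homOfLE le_top : O ⟶ ⊤).op (((Scheme.ΓSpecIso (CommRingCat.of k)).inv ≫ X.hom.appTop).hom d) →
      c = d := by
    intro O x hx d hd
    haveI : Nonempty O := ⟨⟨x, hx⟩⟩
    haveI : Nontrivial Γ(X.left, O) := X.left.component_nontrivial O
    exact RingHom.injective ((X.left.presheaf.map (homOfLE le_top : O ⟶ ⊤).op).hom.comp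
      ((Scheme.ΓSpecIso (CommRingCat.of k)).inv ≫ X.hom.appTop).hom) hd
  have h1 : c = 1 := key (W ⟨true⟩) a ha 1 (by rw [map_one, map_one]; exact he ⟨true⟩)
  have h0 : c = 0 := key (W ⟨false⟩) b hb 0 (by rw [map_zero, map_zero]; exact he ⟨false⟩)
  exact one_ne_zero (α := k) (h1.symm.trans h0)

/-- A rational point over an algebraically closed field. -/
theorem exists_point [IsAlgClosed k] [LocallyOfFiniteType X.hom] [Nonempty X.left] :
    Nonempty (𝟙_ (Over (Spec (CommRingCat.of k))) ⟶ X) := by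
  haveI : JacobsonSpace X.left := LocallyOfFiniteType.jacobsonSpace X.hom
  obtain ⟨p, -, hpc⟩ := nonempty_inter_closedPoints (Set.univ_nonempty (α := X.left)) isOpen_univ.isLocallyClosed
  exact ⟨Over.homMk (pointOfClosedPoint X.hom p hpc) (pointOfClosedPoint_comp _ _ _)⟩

/-- Locally of finite type over a field is quasi-separated. -/
theorem quasiSeparated [LocallyOfFiniteType X.hom] : QuasiSeparated X.hom := by
  haveI := LocallyOfFiniteType.isLocallyNoetherian X.hom
  rw [quasiSeparated_iff_quasiSeparatedSpace]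
  infer_instance

variable [QuasiCompact X.hom] [QuasiSeparated X.hom]

omit [QuasiCompact X.hom] [QuasiSeparated X.hom] in
/-- A morphism from a scheme with constant functions to an affine scheme is constant. -/
theorem eq_toUnit_comp_of_isAffine {N : Over (Spec (CommRingCat.of k))} [IsAffine N.left]
    (hX : Function.Surjective X.hom.appTop.hom) (x₀ : 𝟙_ (Over (Spec (CommRingCat.of k))) ⟶ X) (f : X ⟶ N) :
    f = toUnit X ≫ x₀ ≫ f := by
  ext1
  refine ext_of_isAffine ?_
  have hinv : X.hom.appTop ≫ x₀.left.appTop = 𝟙 _ := by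
    rw [← Scheme.Hom.comp_appTop, Over.w x₀]; exact Scheme.Hom.id_appTop
  ext a
  obtain ⟨c, hc⟩ := hX (f.left.appTop a)
  have h2 : x₀.left.appTop (f.left.appTop a) = c := by rw [← hc]; exact ConcreteCategory.congr_hom hinv c
  show f.left.appTop a = ((toUnit X).left ≫ x₀.left ≫ f.left).appTop a
  rw [Scheme.Hom.comp_appTop, Scheme.Hom.comp_appTop, Over.toUnit_left]
  exact hc.symm.trans (congrArg X.hom.appTop h2.symm)

variable {G : Over (Spec (CommRingCat.of k))} [GrpObj G]

/-- A morphism trivial on a slice into a separated group is trivial. -/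
theorem eq_one_of_slices (hX : Function.Surjective X.hom.appTop.hom) (x₀ : 𝟙_ (Over (Spec (CommRingCat.of k))) ⟶ X)
    {Y : Over (Spec (CommRingCat.of k))} [IsLocallyNoetherian Y.left] [ConnectedSpace Y.left]
    (y₀ : 𝟙_ (Over (Spec (CommRingCat.of k))) ⟶ Y) (F : X ⊗ Y ⟶ G) (h : (X ◁ y₀) ≫ F = 1)
    (h' : lift (toUnit Y ≫ x₀) (𝟙 Y) ≫ F = 1) : F = 1 := by
  haveI := AbRigid.isSeparated_of_grpObj G
  have hc : IsConst x₀ ((X ◁ y₀) ≫ F) := by
    rw [IsConst, h, comp_one, comp_one]
  have key := isConst_of_slice x₀ hX F y₀ hc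
  rw [IsConst, h', comp_one] at key
  exact key

variable [GrpObj X] [LocallyOfFiniteType X.hom]

/-- A pointed morphism from an anti-affine group to a group is a homomorphism. -/
theorem isMonHom_of_unit_comp
    (hX : Function.Bijective ((Scheme.ΓSpecIso (CommRingCat.of k)).inv ≫ X.hom.appTop).hom)
    (f : X ⟶ G) (hf : η[X] ≫ f = η[G]) : IsMonHom f := by
  haveI := connectedSpace_of_antiAffine hX
  haveI : IsLocallyNoetherian X.left := LocallyOfFiniteType.isLocallyNoetherian X.hom
  have hone : ∀ T, (1 : T ⟶ X) ≫ f = 1 := fun T => by rw [Hom.one_def, Category.assoc, hf, ← Hom.one_def]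
  let F : X ⊗ X ⟶ G := (μ[X] ≫ f) * (snd X X ≫ f)⁻¹ * (fst X X ≫ f)⁻¹
  have hF : ∀ {T} (p q : T ⟶ X), lift p q ≫ F = ((p * q) ≫ f) * (q ≫ f)⁻¹ * (p ≫ f)⁻¹ := by
    intro T p q
    simp only [F, comp_mul, GrpObj.comp_inv, ← Category.assoc, ← Hom.mul_def, lift_fst, lift_snd]
  have e : F = 1 := by
    refine eq_one_of_slices (surjective_appTop hX) η[X] η[X] F ?_ ?_
    · rw [show X ◁ η[X] = lift (fst X _) (1 : _ ⟶ X) from CartesianMonoidalCategory.hom_ext _ _ (by simp)
        (by rw [whiskerLeft_snd, lift_snd, Hom.one_def]; congr 1; exact toUnit_unique _ _), hF,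
        _root_.mul_one, hone, inv_one, _root_.mul_one, mul_inv_cancel]
    · rw [show toUnit X ≫ η[X] = (1 : X ⟶ X) from (Hom.one_def).symm, hF, _root_.one_mul, hone, inv_one,
        _root_.mul_one, mul_inv_cancel]
  refine ⟨hf, ?_⟩
  have e' : μ[X] ≫ f = (fst X X ≫ f) * (snd X X ≫ f) :=
    calc μ[X] ≫ f = F * (fst X X ≫ f) * (snd X X ≫ f) := by simp [F, _root_.mul_assoc]
      _ = _ := by rw [e, _root_.one_mul]
  rw [e', Hom.mul_def, lift_fst_comp_snd_comp]

/-- Homomorphisms from an anti-affine group to a connected group are central. -/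
theorem central {Y : Over (Spec (CommRingCat.of k))} [GrpObj Y] [LocallyOfFiniteType Y.hom] [ConnectedSpace Y.left]
    (hX : Function.Bijective ((Scheme.ΓSpecIso (CommRingCat.of k)).inv ≫ X.hom.appTop).hom)
    (φ : X ⟶ Y) [IsMonHom φ] {T : Over (Spec (CommRingCat.of k))} (a : T ⟶ X) (b : T ⟶ Y) :
    (a ≫ φ) * b = b * (a ≫ φ) := by
  haveI : IsLocallyNoetherian Y.left := LocallyOfFiniteType.isLocallyNoetherian Y.hom
  let F : X ⊗ Y ⟶ Y := (fst X Y ≫ φ) * snd X Y * (fst X Y ≫ φ)⁻¹ * (snd X Y)⁻¹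
  have hF : ∀ {T} (p : T ⟶ X) (q : T ⟶ Y), lift p q ≫ F = (p ≫ φ) * q * (p ≫ φ)⁻¹ * q⁻¹ := by
    intro T p q
    simp only [F, comp_mul, GrpObj.comp_inv, lift_fst_assoc, lift_snd]
  have e : F = 1 := by
    refine eq_one_of_slices (surjective_appTop hX) η[X] η[Y] F ?_ ?_
    · rw [show X ◁ η[Y] = lift (fst X _) (1 : _ ⟶ Y) from CartesianMonoidalCategory.hom_ext _ _ (by simp)
        (by rw [whiskerLeft_snd, lift_snd, Hom.one_def]; congr 1; exact toUnit_unique _ _), hF,
        inv_one, _root_.mul_one, _root_.mul_one, mul_inv_cancel]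
    · rw [show toUnit Y ≫ η[X] = (1 : Y ⟶ X) from (Hom.one_def).symm, hF, MonObj.one_comp, inv_one, _root_.one_mul,
        _root_.mul_one, mul_inv_cancel]
  have := congrArg (lift a b ≫ ·) e
  simp only [hF, comp_one] at this
  exact mul_inv_eq_iff_eq_mul.mp (mul_inv_eq_one.mp this)

end Groth.Agent.Rigid19
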