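import Groth.Agent.Lib.Rigid19.AntiAffine
import Mathlib.RingTheory.IsTensorProduct
import Mathlib.RingTheory.Flat.Basic
import Mathlib.RingTheory.Flat.FaithfullyFlat.Basic
import Mathlib.AlgebraicGeometry.Morphisms.Flat

/-!
# Global functions of products over a field
-/

universe u

set_option backward.isDefEq.respectTransparency false
set_option linter.style.haveILetI false

open CategoryTheory Limits AlgebraicGeometry TopologicalSpace

namespace Groth.Agent.Rigid19

variable {k : Type u} [Field k]

section algebra

variable {A B P : CommRingCat.{u}} {a : CommRingCat.of k ⟶ A} {b : CommRingCat.of k ⟶ B} {l : A ⟶ P} {r : B ⟶ P}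

/-- In a pushout over a field the coprojection is bijective iff the opposite map is. -/
theorem bijective_inr_iff (h : IsPushout a b l r) [Nontrivial B] :
    Function.Bijective r.hom ↔ Function.Bijective a.hom := by
  algebraize [a.hom, b.hom, l.hom, r.hom, (a ≫ l).hom]
  haveI : IsScalarTower k A P := .of_algebraMap_eq' rfl
  haveI : IsScalarTower k B P := .of_algebraMap_eq' (congrArg CommRingCat.Hom.hom h.w)
  haveI : Algebra.IsPushout k A B P := CommRingCat.isPushout_iff_isPushout.mp h
  haveI : Algebra.IsPushout k B A P := Algebra.IsPushout.symm inferInstance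
  have e : ∀ x : B, r.hom x = Algebra.IsPushout.equiv k B A P
      ((TensorProduct.rid k B).symm.trans (LinearEquiv.refl k _) x |> (Algebra.linearMap k A).lTensor B) := by
    intro x
    simp [LinearMap.lTensor_tmul, Algebra.IsPushout.equiv_tmul, RingHom.algebraMap_toAlgebra]
  show Function.Bijective (fun x => r.hom x) ↔ Function.Bijective (Algebra.linearMap k A)
  rw [← Module.FaithfullyFlat.lTensor_bijective_iff_bijective k B, show (fun x => r.hom x) = _ from funext e]
  exact (Function.Bijective.of_comp_iff' (Algebra.IsPushout.equiv k B A P).bijective _).trans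
    (Function.Bijective.of_comp_iff _ (TensorProduct.rid k B).symm.bijective)

/-- In a pushout over a field the composite is bijective iff both maps are. -/
theorem bijective_comp_iff (h : IsPushout a b l r) [Nontrivial A] [Nontrivial B] :
    Function.Bijective (a ≫ l).hom ↔ Function.Bijective a.hom ∧ Function.Bijective b.hom := by
  have key : ∀ {A B P : CommRingCat.{u}} {a : CommRingCat.of k ⟶ A} {b : CommRingCat.of k ⟶ B} {l : A ⟶ P}
      {r : B ⟶ P}, IsPushout a b l r → Nontrivial A → Nontrivial B → Function.Bijective (a ≫ l).hom →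
      Function.Bijective b.hom := by
    intro A B P a b l r h _ _ hP
    refine ⟨b.hom.injective, fun x => ?_⟩
    algebraize [a.hom, b.hom, l.hom, r.hom, (a ≫ l).hom]
    haveI : IsScalarTower k A P := .of_algebraMap_eq' rfl
    haveI : IsScalarTower k B P := .of_algebraMap_eq' (congrArg CommRingCat.Hom.hom h.w)
    haveI : Algebra.IsPushout k A B P := CommRingCat.isPushout_iff_isPushout.mp h
    haveI : Algebra.IsPushout k B A P := Algebra.IsPushout.symm inferInstance
    obtain ⟨c, hc⟩ := hP.2 (r.hom x)
    have h1 : ∀ y : B, (Algebra.IsPushout.equiv k B A P).symm (r.hom y) = y ⊗ₜ[k] (1 : A) := fun y =>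
      (Algebra.IsPushout.equiv k B A P).symm_apply_eq.mpr (by
        rw [Algebra.IsPushout.equiv_tmul, map_one, mul_one]; rfl)
    have h2 : r.hom (b.hom c) = r.hom x := by
      rw [← hc]; exact (ConcreteCategory.congr_hom h.w c).symm
    have h3 := congrArg (Algebra.IsPushout.equiv k B A P).symm h2
    rw [h1, h1] at h3
    refine ⟨c, Algebra.TensorProduct.includeLeft_injective (R := k) (S := k) (A := B) (B := A) (algebraMap k A).injective ?_⟩
    simpa using h3
  refine ⟨fun hP => ⟨key h.flip ‹_› ‹_› (by rwa [← h.w]), key h ‹_› ‹_› hP⟩, fun ⟨ha, hb⟩ => ?_⟩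
  rw [h.w]
  exact ((bijective_inr_iff h).mpr ha).comp hb

end algebra

/-- The global functions of a fibre product over a field form the tensor product. -/
theorem isPushout_appTop {X T Y : Scheme.{u}} {fst : Y ⟶ X} {snd : Y ⟶ T} {f : X ⟶ Spec (CommRingCat.of k)}
    {g : T ⟶ Spec (CommRingCat.of k)} (sq : IsPullback fst snd f g) [QuasiCompact f] [QuasiSeparated f]
    [QuasiCompact g] [QuasiSeparated g] :
    IsPushout ((Scheme.ΓSpecIso (CommRingCat.of k)).inv ≫ f.appTop) ((Scheme.ΓSpecIso (CommRingCat.of k)).inv ≫ g.appTop)
      fst.appTop snd.appTop := by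
  haveI : CompactSpace X := QuasiCompact.compactSpace_of_compactSpace f
  haveI : QuasiSeparatedSpace X := quasiSeparatedSpace_of_quasiSeparated f
  haveI : CompactSpace T := QuasiCompact.compactSpace_of_compactSpace g
  haveI : QuasiSeparatedSpace T := quasiSeparatedSpace_of_quasiSeparated g
  have hflat : (f.appLE ⊤ ⊤ (by simp)).hom.Flat := by
    letI : Field Γ(Spec (CommRingCat.of k), ⊤) :=
      ((Scheme.ΓSpecIso (CommRingCat.of k)).commRingCatIsoToRingEquiv.toMulEquiv.isField (Field.toIsField k)).toField
    algebraize [(f.appLE ⊤ ⊤ (by simp)).hom]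
    exact Module.Flat.of_free
  have hiso := isIso_pushoutSection_of_isCompact_of_flat_right_of_ringHomFlat sq
    (US := ⊤) (UT := ⊤) (UX := ⊤) (UY := ⊤) le_top le_top (by simp) (isAffineOpen_top _)
    (show IsCompact ((⊤ : T.Opens) : Set T) from isCompact_univ) isQuasiSeparated_univ
    (show IsCompact ((⊤ : X.Opens) : Set X) from isCompact_univ) isQuasiSeparated_univ hflat
  replace hiso := (isIso_pushoutSection_iff sq le_top le_top (by simp)).mp hiso
  replace hiso : IsPushout f.appTop g.appTop fst.appTop snd.appTop := by
    simp only [Scheme.Hom.appTop, Scheme.Hom.app_eq_appLE]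
    exact hiso
  exact hiso.of_iso (Scheme.ΓSpecIso (CommRingCat.of k)) (Iso.refl _) (Iso.refl _) (Iso.refl _)
    (by simp) (by simp) (by simp) (by simp)

end Groth.Agent.Rigid19
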