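import Groth.Agent.Lib.Rigid19.Local
import Mathlib.RingTheory.HopkinsLevitzki
import Mathlib.AlgebraicGeometry.Noetherian
import Mathlib.AlgebraicGeometry.ResidueField

/-!
# Rigidity for a factor without non-constant functions
-/

universe u

set_option backward.isDefEq.respectTransparency.types false
set_option linter.style.haveILetI false

open CategoryTheory Limits AlgebraicGeometry MonoidalCategory CartesianMonoidalCategory

namespace Groth.Agent.Rigid19

variable {k : Type u} [Field k] {X Z : Over (Spec (CommRingCat.of k))}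
  (x₀ : 𝟙_ (Over (Spec (CommRingCat.of k))) ⟶ X)

/-- A morphism out of a product is constant along the first factor. -/
def IsConst {T : Over (Spec (CommRingCat.of k))} (f : X ⊗ T ⟶ Z) : Prop :=
  f = snd X T ≫ lift (toUnit T ≫ x₀) (𝟙 T) ≫ f

theorem isConst_whiskerLeft_iff {T T' : Over (Spec (CommRingCat.of k))} (f : X ⊗ T ⟶ Z) (t : T' ⟶ T) :
    IsConst x₀ ((X ◁ t) ≫ f) ↔ (X ◁ t) ≫ f = (X ◁ t) ≫ snd X T ≫ lift (toUnit T ≫ x₀) (𝟙 T) ≫ f := by
  have e : snd X T' ≫ lift (toUnit T' ≫ x₀) (𝟙 T') ≫ (X ◁ t) ≫ f =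
      (X ◁ t) ≫ snd X T ≫ lift (toUnit T ≫ x₀) (𝟙 T) ≫ f := by
    have h1 : lift (toUnit T' ≫ x₀) (𝟙 T') ≫ (X ◁ t) = t ≫ lift (toUnit T ≫ x₀) (𝟙 T) := by
      apply CartesianMonoidalCategory.hom_ext <;> simp [← Category.assoc]
    rw [reassoc_of% h1, whiskerLeft_snd_assoc]
  rw [IsConst, e]

theorem IsConst.comp {T T' : Over (Spec (CommRingCat.of k))} {f : X ⊗ T ⟶ Z} (h : IsConst x₀ f) (t : T' ⟶ T) :
    IsConst x₀ ((X ◁ t) ≫ f) := by
  rw [isConst_whiskerLeft_iff]
  exact congrArg ((X ◁ t) ≫ ·) h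

/-- The inclusion of an affine open, tensored with anything, covers. -/
theorem ext_cover {T : Over (Spec (CommRingCat.of k))} {f g : X ⊗ T ⟶ Z} [IsSeparated Z.hom]
    (h : ∀ (A : CommRingCat.{u}) (ψ : CommRingCat.of k ⟶ A) (j : sp ψ ⟶ X), (j ▷ T) ≫ f = (j ▷ T) ≫ g) : f = g := by
  ext1
  refine Scheme.Cover.hom_ext (X.left.affineCover.pullback₁ (fst X T).left) _ _ fun i => ?_
  let A := (X.left.affineOpenCover.X i)
  let ψ : CommRingCat.of k ⟶ A := Spec.preimage (X.left.affineOpenCover.f i ≫ X.hom)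
  let j : sp ψ ⟶ X := Over.homMk (X.left.affineOpenCover.f i) (Spec.map_preimage _).symm
  have sq : IsPullback (j ▷ T).left (fst (sp ψ) T).left (fst X T).left j.left :=
    ((AbRigid.isPullback_whiskerRight j T).map (Over.forget _)).flip
  have e := congrArg (fun m : sp ψ ⊗ T ⟶ Z => m.left) (h A ψ j)
  simp only [Over.comp_left] at e
  show pullback.fst (fst X T).left j.left ≫ f.left = pullback.fst (fst X T).left j.left ≫ g.left
  rw [← sq.isoPullback_inv_fst, Category.assoc, Category.assoc, e]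

variable [QuasiCompact X.hom] [QuasiSeparated X.hom] [IsSeparated Z.hom]
  (hX : Function.Surjective X.hom.appTop.hom)

include hX

/-- Constancy spreads from a subscheme with the same underlying point. -/
theorem isConst_of_surjective {T T₀ : Over (Spec (CommRingCat.of k))} [IsAffine T.left] [Subsingleton ↥T.left]
    (i : T₀ ⟶ T) [Surjective i.left] (f : X ⊗ T ⟶ Z) (h : IsConst x₀ ((X ◁ i) ≫ f)) : IsConst x₀ f := by
  rw [isConst_whiskerLeft_iff] at h
  let g := snd X T ≫ lift (toUnit T ≫ x₀) (𝟙 T) ≫ f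
  let s := lift (toUnit T ≫ x₀) (𝟙 T)
  haveI : Surjective (X ◁ i).left :=
    MorphismProperty.of_isPullback (P := @Surjective)
      (show IsPullback (snd X T₀).left (X ◁ i).left i.left (snd X T).left from (AbRigid.isPullback_whiskerLeft i X).map (Over.forget _)) ‹Surjective i.left›
  rcases isEmpty_or_nonempty ↥T.left with he | ⟨⟨τ⟩⟩
  · haveI : IsEmpty ↥(X ⊗ T).left := ⟨fun p => he.false ((snd X T).left p)⟩
    exact eq_of_fromSpecStalk fun p => isEmptyElim p
  let z₀ := (s ≫ f).left τ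
  have hg : ∀ p, g.left p = z₀ := fun p => congrArg (s ≫ f).left (Subsingleton.elim ((snd X T).left p) τ)
  have hf : ∀ p, f.left p = z₀ := by
    intro p
    obtain ⟨q, rfl⟩ := (X ◁ i).left.surjective p
    have e : ((X ◁ i) ≫ f).left q = ((X ◁ i) ≫ g).left q := by rw [h]
    exact e.trans (hg _)
  obtain ⟨W, hW, hzW⟩ : ∃ W : Z.left.Opens, IsAffineOpen W ∧ z₀ ∈ W := by
    obtain ⟨_, ⟨W, hW, rfl⟩, hzW, -⟩ :=
      Z.left.isBasis_affineOpens.exists_subset_of_mem_open (Set.mem_univ z₀) isOpen_univ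
    exact ⟨W, hW, hzW⟩
  haveI : IsAffine W.toScheme := hW
  have rf : Set.range f.left ⊆ Set.range W.ι := by
    rintro _ ⟨p, rfl⟩; rw [Scheme.Opens.range_ι, hf]; exact hzW
  have rg : Set.range g.left ⊆ Set.range W.ι := by
    rintro _ ⟨p, rfl⟩; rw [Scheme.Opens.range_ι, hg]; exact hzW
  have hs : Function.Injective s.left.appTop.hom := by
    obtain ⟨B, ⟨eB⟩⟩ : ∃ B : CommRingCat.{u}, Nonempty (T.left ≅ Spec B) := ⟨_, ⟨T.left.isoSpec⟩⟩
    haveI : Flat (eB.inv ≫ T.hom) := inferInstance
    have hsurj0 := RigidRel.surjective_snd_appTop X.hom (eB.inv ≫ T.hom) hX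
    let m : pullback X.hom T.hom ≅ pullback X.hom (eB.inv ≫ T.hom) :=
      asIso (pullback.map X.hom T.hom X.hom (eB.inv ≫ T.hom) (𝟙 _) eB.hom (𝟙 _) (by simp) (by simp))
    have hsurj : Function.Surjective (snd X T).left.appTop.hom :=
      RigidRel.appTop_surjective_of_iso m _ (pullback.snd X.hom (eB.inv ≫ T.hom) ≫ eB.inv)
        (by
          show m.hom ≫ pullback.snd X.hom (eB.inv ≫ T.hom) ≫ eB.inv = pullback.snd X.hom T.hom
          rw [asIso_hom, pullback.map, pullback.lift_snd_assoc, Category.assoc, Iso.hom_inv_id, Category.comp_id]) (by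
          rw [Scheme.Hom.comp_appTop, CommRingCat.hom_comp]
          exact hsurj0.comp ((ConcreteCategory.bijective_of_isIso (C := CommRingCat) (eB.inv.app ⊤)).2))
    have e : (snd X T).left.appTop ≫ s.left.appTop = 𝟙 _ := by
      rw [← Scheme.Hom.comp_appTop, ← Over.comp_left, lift_snd, Over.id_left, Scheme.Hom.id_appTop]
    intro a b hab
    obtain ⟨a', rfl⟩ := hsurj a
    obtain ⟨b', rfl⟩ := hsurj b
    rw [show a' = b' from ((ConcreteCategory.congr_hom e a').symm.trans hab).trans (ConcreteCategory.congr_hom e b')]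
  have key : IsOpenImmersion.lift W.ι f.left rf = IsOpenImmersion.lift W.ι g.left rg := by
    refine ext_of_isAffine ?_
    have e : s.left ≫ IsOpenImmersion.lift W.ι f.left rf = s.left ≫ IsOpenImmersion.lift W.ι g.left rg := by
      rw [← cancel_mono W.ι, Category.assoc, Category.assoc, IsOpenImmersion.lift_fac, IsOpenImmersion.lift_fac,
        ← Over.comp_left, ← Over.comp_left]
      show (s ≫ f).left = (s ≫ snd X T ≫ s ≫ f).left
      rw [← Category.assoc s (snd X T), lift_snd, Category.id_comp]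
    ext a
    exact hs (ConcreteCategory.congr_hom ((Scheme.Hom.comp_appTop _ _).symm.trans
      ((congrArg Scheme.Hom.appTop e).trans (Scheme.Hom.comp_appTop _ _))) a)
  exact Over.OverMorphism.ext ((IsOpenImmersion.lift_fac _ _ _).symm.trans
    ((congrArg (· ≫ W.ι) key).trans (IsOpenImmersion.lift_fac _ _ _)))

/-- Constancy at the closed point of a noetherian local scheme gives constancy. -/
theorem isConst_of_isLocalRing {R : CommRingCat.{u}} (φ : CommRingCat.of k ⟶ R) [IsLocalRing R] [IsNoetherianRing R]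
    (f : X ⊗ sp φ ⟶ Z) (h : IsConst x₀ ((X ◁ spMap φ (CommRingCat.ofHom (IsLocalRing.residue R))) ≫ f)) :
    IsConst x₀ f := by
  refine ext_cover (fun A ψ j => eq_of_infinitesimal_affine ψ φ fun n => ?_)
  let q := Ideal.Quotient.mk (IsLocalRing.maximalIdeal R ^ n)
  have hc : IsConst x₀ ((X ◁ spMap φ (CommRingCat.ofHom q)) ≫ f) := by
    rcases Nat.eq_zero_or_pos n with rfl | hn
    · haveI : IsEmpty ↥(X ⊗ sp (φ ≫ CommRingCat.ofHom q)).left := by
        haveI : Subsingleton (R ⧸ IsLocalRing.maximalIdeal R ^ 0) :=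
          Ideal.Quotient.subsingleton_iff.mpr (by simp)
        exact ⟨fun p => (inferInstance : IsEmpty (PrimeSpectrum (R ⧸ IsLocalRing.maximalIdeal R ^ 0))).false
          ((snd X (sp (φ ≫ CommRingCat.ofHom q))).left p)⟩
      exact eq_of_fromSpecStalk fun p => isEmptyElim p
    · have hle : IsLocalRing.maximalIdeal R ^ n ≤ IsLocalRing.maximalIdeal R := Ideal.pow_le_self hn.ne'
      let r : R ⧸ IsLocalRing.maximalIdeal R ^ n →+* IsLocalRing.ResidueField R :=
        Ideal.Quotient.lift _ (IsLocalRing.residue R) (fun a ha => (IsLocalRing.residue_eq_zero_iff a).mpr (hle ha))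
      let i : sp (φ ≫ CommRingCat.ofHom (IsLocalRing.residue R)) ⟶ sp (φ ≫ CommRingCat.ofHom q) :=
        Over.homMk (Spec.map (CommRingCat.ofHom r)) (by show Spec.map _ ≫ Spec.map _ = Spec.map _; rw [← Spec.map_comp]; rfl)
      haveI hsub : Subsingleton ↥(sp (φ ≫ CommRingCat.ofHom q)).left := by
        refine ⟨fun a b => PrimeSpectrum.ext ?_⟩
        have key : ∀ P : PrimeSpectrum (R ⧸ IsLocalRing.maximalIdeal R ^ n),
            P.asIdeal = (IsLocalRing.maximalIdeal R).map q := by
          intro P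
          have h1 : P.asIdeal.comap q = IsLocalRing.maximalIdeal R := by
            refine le_antisymm (IsLocalRing.le_maximalIdeal (P.2.comap q).ne_top) ?_
            refine (P.2.comap q).le_of_pow_le (n := n) fun a ha => ?_
            rw [Ideal.mem_comap, Ideal.Quotient.eq_zero_iff_mem.mpr ha]
            exact P.asIdeal.zero_mem
          exact ((Ideal.map_comap_of_surjective q Ideal.Quotient.mk_surjective P.asIdeal).symm).trans (congrArg (Ideal.map q) h1)
        exact (key a).trans (key b).symm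
      haveI : Surjective i.left :=
        ⟨fun p => ⟨IsLocalRing.closedPoint (IsLocalRing.ResidueField R), Subsingleton.elim _ _⟩⟩
      refine isConst_of_surjective x₀ hX i _ ?_
      have e : i ≫ spMap φ (CommRingCat.ofHom q) = spMap φ (CommRingCat.ofHom (IsLocalRing.residue R)) := by
        ext1
        show Spec.map (CommRingCat.ofHom r) ≫ Spec.map (CommRingCat.ofHom q) = _
        rw [← Spec.map_comp]; rfl
      rwa [← MonoidalCategory.whiskerLeft_comp_assoc, e]
  rw [isConst_whiskerLeft_iff] at hc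
  rw [whisker_exchange_assoc, whisker_exchange_assoc]
  exact congrArg ((j ▷ _) ≫ ·) hc

omit hX in
/-- Constancy passes to a scheme along an injective ring map. -/
theorem isConst_of_injective {R R' : CommRingCat.{u}} (φ : CommRingCat.of k ⟶ R) (σ : R ⟶ R')
    (hσ : Function.Injective σ.hom) (f : X ⊗ sp φ ⟶ Z) (h : IsConst x₀ ((X ◁ spMap φ σ) ≫ f)) : IsConst x₀ f := by
  rw [isConst_whiskerLeft_iff] at h
  haveI : IsSchemeTheoreticallyDominant (Spec.map σ) := by
    constructor
    refine Scheme.IdealSheafData.ext_of_isAffine ?_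
    rw [Scheme.Hom.ker_apply]
    simp only [Scheme.IdealSheafData.ideal_bot, Pi.bot_apply]
    rw [← RingHom.injective_iff_ker_eq_bot]
    have e : (Spec.map σ).appTop = (Scheme.ΓSpecIso R).hom ≫ σ ≫ (Scheme.ΓSpecIso R').inv := by
      rw [← Category.assoc, Iso.eq_comp_inv]; exact Scheme.ΓSpecIso_naturality σ
    show Function.Injective (Spec.map σ).appTop.hom
    rw [e]
    exact ((Scheme.ΓSpecIso R').symm.commRingCatIsoToRingEquiv.injective.comp hσ).comp
      (Scheme.ΓSpecIso R).commRingCatIsoToRingEquiv.injective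
  haveI : Flat (pullback.snd X.hom (Spec.map φ)) := inferInstance
  haveI : IsSchemeTheoreticallyDominant (X ◁ spMap φ σ).left :=
    IsSchemeTheoreticallyDominant.of_isPullback (f := Spec.map σ) (g := pullback.snd X.hom (Spec.map φ))
      (show IsPullback (snd X (sp (φ ≫ σ))).left (X ◁ spMap φ σ).left (Spec.map σ) (pullback.snd X.hom (Spec.map φ))
        from (AbRigid.isPullback_whiskerLeft (spMap φ σ) X).map (Over.forget _))
  exact eq_of_dominant (X ◁ spMap φ σ) h

variable {Y : Over (Spec (CommRingCat.of k))} [IsLocallyNoetherian Y.left] (f : X ⊗ Y ⟶ Z)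

/-- The point of a local ring of `Y`. -/
noncomputable abbrev stk (Y : Over (Spec (CommRingCat.of k))) (y : Y.left) :
    sp (Spec.preimage (Y.left.fromSpecStalk y ≫ Y.hom)) ⟶ Y :=
  Over.homMk (Y.left.fromSpecStalk y) (Spec.map_preimage _).symm

omit hX in
/-- The residue field point. -/
noncomputable abbrev res (Y : Over (Spec (CommRingCat.of k))) (y : Y.left) :
    sp (Spec.preimage (Y.left.fromSpecStalk y ≫ Y.hom) ≫ Y.left.residue y) ⟶ Y :=
  spMap _ (Y.left.residue y) ≫ stk Y y

theorem isConst_stk {y : Y.left} (h : IsConst x₀ ((X ◁ res Y y) ≫ f)) : IsConst x₀ ((X ◁ stk Y y) ≫ f) := by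
  refine isConst_of_isLocalRing x₀ hX _ _ ?_
  rw [← MonoidalCategory.whiskerLeft_comp_assoc]
  exact h

theorem isConst_of_specializes {y z : Y.left} (hyz : z ⤳ y) :
    IsConst x₀ ((X ◁ res Y y) ≫ f) ↔ IsConst x₀ ((X ◁ res Y z) ≫ f) := by
  let φ := Spec.preimage (Y.left.fromSpecStalk y ≫ Y.hom)
  let σ := Y.left.presheaf.stalkSpecializes hyz ≫ Y.left.residue z
  have hσ : φ ≫ σ = Spec.preimage (Y.left.fromSpecStalk z ≫ Y.hom) ≫ Y.left.residue z := by
    refine Spec.map_injective ?_
    simp only [σ, φ, Spec.map_comp, Spec.map_preimage, Category.assoc, Scheme.SpecMap_stalkSpecializes_fromSpecStalk_assoc]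
  let m : sp (Spec.preimage (Y.left.fromSpecStalk z ≫ Y.hom) ≫ Y.left.residue z) ⟶ sp φ :=
    Over.homMk (Spec.map σ) (by show Spec.map σ ≫ Spec.map φ = Spec.map _; rw [← Spec.map_comp, hσ])
  have hm : m ≫ stk Y y = res Y z := by
    ext1
    show Spec.map σ ≫ Y.left.fromSpecStalk y = Spec.map (Y.left.residue z) ≫ Y.left.fromSpecStalk z
    rw [Spec.map_comp, Category.assoc, Scheme.SpecMap_stalkSpecializes_fromSpecStalk]
  constructor
  · intro h
    have := (isConst_stk x₀ hX f h).comp x₀ m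
    rwa [← MonoidalCategory.whiskerLeft_comp_assoc, hm] at this
  · intro h
    let I := RingHom.ker σ.hom
    let q : CommRingCat.of (Y.left.presheaf.stalk y) ⟶ CommRingCat.of (Y.left.presheaf.stalk y ⧸ I) :=
      CommRingCat.ofHom (Ideal.Quotient.mk I)
    let σ' : CommRingCat.of (Y.left.presheaf.stalk y ⧸ I) ⟶ Y.left.residueField z :=
      CommRingCat.ofHom (RingHom.kerLift σ.hom)
    have hqσ : (q ≫ σ' : Y.left.presheaf.stalk y ⟶ _) = σ := rfl
    have h1 : IsConst x₀ ((X ◁ (spMap φ q ≫ stk Y y)) ≫ f) := by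
      refine isConst_of_injective x₀ (φ ≫ q) σ' (RingHom.kerLift_injective _) _ ?_
      let e : sp ((φ ≫ q) ≫ σ') ⟶ sp (Spec.preimage (Y.left.fromSpecStalk z ≫ Y.hom) ≫ Y.left.residue z) :=
        Over.homMk (𝟙 _) (by show 𝟙 _ ≫ Spec.map _ = Spec.map _; rw [Category.id_comp, Category.assoc, hqσ, hσ])
      have he : spMap (φ ≫ q) σ' ≫ spMap φ q ≫ stk Y y = e ≫ res Y z := by
        rw [← hm]
        ext1
        show Spec.map σ' ≫ Spec.map q ≫ Y.left.fromSpecStalk y = 𝟙 _ ≫ Spec.map σ ≫ Y.left.fromSpecStalk y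
        rw [Category.id_comp, ← Category.assoc, ← Spec.map_comp, hqσ]
      rw [← MonoidalCategory.whiskerLeft_comp_assoc, he, MonoidalCategory.whiskerLeft_comp_assoc]
      exact h.comp x₀ e
    have hI : I ≤ IsLocalRing.maximalIdeal (Y.left.presheaf.stalk y) := IsLocalRing.le_maximalIdeal (RingHom.ker_ne_top _)
    let r : CommRingCat.of (Y.left.presheaf.stalk y ⧸ I) ⟶ Y.left.residueField y :=
      CommRingCat.ofHom (Ideal.Quotient.lift I (IsLocalRing.residue _)
        (fun a ha => (IsLocalRing.residue_eq_zero_iff a).mpr (hI ha)))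
    have hr : (q ≫ r : Y.left.presheaf.stalk y ⟶ _) = Y.left.residue y := rfl
    let e' : sp (φ ≫ Y.left.residue y) ⟶ sp (φ ≫ q) :=
      Over.homMk (Spec.map r) (by show Spec.map r ≫ Spec.map _ = Spec.map _; rw [← Spec.map_comp, Category.assoc, hr])
    have he' : e' ≫ spMap φ q ≫ stk Y y = res Y y := by
      ext1
      show Spec.map r ≫ Spec.map q ≫ Y.left.fromSpecStalk y = Spec.map (Y.left.residue y) ≫ Y.left.fromSpecStalk y
      rw [← Category.assoc, ← Spec.map_comp, hr]
    have := h1.comp x₀ e'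
    rwa [← MonoidalCategory.whiskerLeft_comp_assoc, he'] at this

omit hX in
/-- In a connected locally noetherian scheme a set stable under specialization both ways is everything. -/
theorem eq_univ_of_stable {W : Scheme.{u}} [IsLocallyNoetherian W] [PreconnectedSpace ↥W] (P : Set ↥W)
    (hne : P.Nonempty) (hP : ∀ a b : W, a ⤳ b → (a ∈ P ↔ b ∈ P)) : P = Set.univ := by
  have key : ∀ Q : Set ↥W, (∀ a b : W, a ⤳ b → (a ∈ Q ↔ b ∈ Q)) → IsClosed Q := by
    intro Q hQ
    refine isClosed_iff_nhds.mpr fun y hy => ?_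
    obtain ⟨U, hU, hyU⟩ : ∃ U : W.Opens, IsAffineOpen U ∧ y ∈ U := by
      obtain ⟨_, ⟨U, hU, rfl⟩, hyU, -⟩ := W.isBasis_affineOpens.exists_subset_of_mem_open (Set.mem_univ y) isOpen_univ
      exact ⟨U, hU, hyU⟩
    haveI : IsNoetherianRing Γ(W, U) := IsLocallyNoetherian.component_noetherian ⟨U, hU⟩
    haveI : TopologicalSpace.NoetherianSpace ↥U.toScheme := by
      haveI : IsAffine U.toScheme := hU
      haveI : TopologicalSpace.NoetherianSpace (PrimeSpectrum Γ(W, U)) := inferInstance
      exact TopologicalSpace.noetherianSpace_of_surjective _ hU.isoSpec.inv.continuous hU.isoSpec.inv.homeomorph.surjective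
    by_contra hyQ
    -- the components through the points of `Q` stay away from `y`
    let C : Set ↥U.toScheme := ⋃₀ {c ∈ irreducibleComponents ↥U.toScheme | ∃ a ∈ c, U.ι a ∈ Q}
    have hCc : IsClosed C := by
      rw [show C = ⋃₀ _ from rfl, Set.sUnion_eq_biUnion]
      exact (TopologicalSpace.NoetherianSpace.finite_irreducibleComponents.subset fun c hc => hc.1).isClosed_biUnion
        fun c hc => isClosed_of_mem_irreducibleComponents c hc.1
    have hCQ : ∀ a ∈ C, U.ι a ∈ Q := by
      rintro a ⟨c, ⟨hc, b, hb, hbQ⟩, ha⟩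
      have hcl := isClosed_of_mem_irreducibleComponents c hc
      have hη := hc.1.isGenericPoint_genericPoint hcl
      have h1 := (hη.specializes hb).map U.ι.continuous
      have h2 := (hη.specializes ha).map U.ι.continuous
      exact (hQ _ _ h2).mp ((hQ _ _ h1).mpr hbQ)
    have hyC : (⟨y, hyU⟩ : U) ∉ C := fun hC => hyQ (hCQ _ hC)
    have hN : U.ι '' Cᶜ ∈ nhds y :=
      (U.ι.isOpenEmbedding.isOpenMap _ hCc.isOpen_compl).mem_nhds ⟨⟨y, hyU⟩, hyC, rfl⟩
    obtain ⟨_, ⟨a, haC, rfl⟩, hwQ⟩ := hy _ hN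
    exact haC ⟨irreducibleComponent a, ⟨irreducibleComponent_mem_irreducibleComponents a, a,
      mem_irreducibleComponent, hwQ⟩, mem_irreducibleComponent⟩
  have h1 := key P hP
  have h2 := key Pᶜ (fun a b hab => not_congr (hP a b hab))
  exact (isClopen_iff.mp ⟨h1, isClosed_compl_iff.mp h2⟩).resolve_left hne.ne_empty

/-- Rigidity. -/
theorem isConst [PreconnectedSpace ↥Y.left] (y : Y.left) (hy : IsConst x₀ ((X ◁ res Y y) ≫ f)) : IsConst x₀ f := by
  have hall : ∀ z : Y.left, IsConst x₀ ((X ◁ res Y z) ≫ f) := fun z =>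
    Set.eq_univ_iff_forall.mp (eq_univ_of_stable {z | IsConst x₀ ((X ◁ res Y z) ≫ f)} ⟨y, hy⟩
      fun a b hab => (isConst_of_specializes x₀ hX f hab).symm) z
  refine eq_of_fromSpecStalk fun p => ?_
  let y' := (snd X Y).left p
  let φ := Spec.preimage (Y.left.fromSpecStalk y' ≫ Y.hom)
  let Pp := Over.mk ((X ⊗ Y).left.fromSpecStalk p ≫ (X ⊗ Y).hom)
  let q : Pp ⟶ X ⊗ Y := Over.homMk ((X ⊗ Y).left.fromSpecStalk p) rfl
  let t : Pp ⟶ sp φ := Over.homMk (Spec.map ((snd X Y).left.stalkMap p)) (by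
    show Spec.map _ ≫ Spec.map φ = _
    rw [Spec.map_preimage, Scheme.SpecMap_stalkMap_fromSpecStalk_assoc, Over.w (snd X Y)]
    rfl)
  have ht : t ≫ stk Y y' = q ≫ snd X Y := Over.OverMorphism.ext (Scheme.SpecMap_stalkMap_fromSpecStalk _)
  have hq : lift (q ≫ fst X Y) t ≫ (X ◁ stk Y y') = q := by
    apply CartesianMonoidalCategory.hom_ext
    · simp
    · rw [Category.assoc, whiskerLeft_snd, lift_snd_assoc, ht]
  have hc := isConst_stk x₀ hX f (hall y')
  rw [isConst_whiskerLeft_iff] at hc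
  have key := congrArg (lift (q ≫ fst X Y) t ≫ ·) hc
  rw [← Category.assoc, hq, ← Category.assoc, hq] at key
  exact congrArg (fun m : Pp ⟶ Z => m.left) key

omit hX in
/-- The residue field point of a rational point is the composite with the structure map. -/
theorem fromSpecResidueField_comp_section (Y : Over (Spec (CommRingCat.of k)))
    (y₀ : 𝟙_ (Over (Spec (CommRingCat.of k))) ⟶ Y) :
    Y.left.fromSpecResidueField (y₀.left (IsLocalRing.closedPoint k)) ≫ Y.hom ≫ y₀.left =
      Y.left.fromSpecResidueField (y₀.left (IsLocalRing.closedPoint k)) := by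
  obtain ⟨⟨p, φ⟩, hp⟩ := (Scheme.SpecToEquivOfField k Y.left).symm.surjective
    (show Spec (CommRingCat.of k) ⟶ Y.left from y₀.left)
  change Spec.map φ ≫ Y.left.fromSpecResidueField p = y₀.left at hp
  have hpt : y₀.left (IsLocalRing.closedPoint k) = p := by
    rw [← hp, Scheme.Hom.comp_apply]; exact Scheme.fromSpecResidueField_apply _ _
  rw [hpt]
  have hs : Spec.map φ ≫ Y.left.fromSpecResidueField p ≫ Y.hom = 𝟙 _ := by
    rw [← Category.assoc, hp]; exact Over.w y₀
  haveI : IsIso φ := by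
    have he : Spec.preimage (Y.left.fromSpecResidueField p ≫ Y.hom) ≫ φ = 𝟙 _ := Spec.map_injective (by
      rw [Spec.map_comp, Spec.map_preimage, Spec.map_id]; exact hs)
    exact (ConcreteCategory.isIso_iff_bijective _).mpr ⟨φ.hom.injective, fun a => ⟨_, ConcreteCategory.congr_hom he a⟩⟩
  rw [← hp, ← cancel_epi (Spec.map φ), ← Category.assoc (Y.left.fromSpecResidueField p), ← Category.assoc (Spec.map φ), hs,
    Category.id_comp]

/-- Rigidity with a rational point. -/
theorem isConst_of_slice [ConnectedSpace ↥Y.left] (y₀ : 𝟙_ (Over (Spec (CommRingCat.of k))) ⟶ Y)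
    (h : IsConst x₀ ((X ◁ y₀) ≫ f)) : IsConst x₀ f := by
  let y := y₀.left (IsLocalRing.closedPoint k)
  refine isConst x₀ hX f y ?_
  obtain ⟨m, hm⟩ : ∃ m : sp (Spec.preimage (Y.left.fromSpecStalk y ≫ Y.hom) ≫ Y.left.residue y) ⟶ 𝟙_ _,
      m ≫ y₀ = res Y y := by
    refine ⟨toUnit _, ?_⟩
    ext1
    -- the composite is the canonical map of the residue field of a rational point
    let w := res Y y
    have hy : Y.left.fromSpecResidueField y ≫ Y.hom ≫ y₀.left = Y.left.fromSpecResidueField y :=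
      fromSpecResidueField_comp_section Y y₀
    show (toUnit (sp (Spec.preimage (Y.left.fromSpecStalk y ≫ Y.hom) ≫ Y.left.residue y))).left ≫ y₀.left = Spec.map (Y.left.residue y) ≫ Y.left.fromSpecStalk y
    rw [show (toUnit (sp (Spec.preimage (Y.left.fromSpecStalk y ≫ Y.hom) ≫ Y.left.residue y))).left = Y.left.fromSpecResidueField y ≫ Y.hom by
      rw [Over.toUnit_left]; show Spec.map (_ ≫ _) = _; rw [Spec.map_comp, Spec.map_preimage]; rfl, Category.assoc]
    exact hy
  have := h.comp x₀ m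
  rwa [← MonoidalCategory.whiskerLeft_comp_assoc, hm] at this

end Groth.Agent.Rigid19
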