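import Groth.Agent.Lib.RigidRel.Global
import Groth.Agent.Lib.AbRigid.Shear
import Mathlib.AlgebraicGeometry.Morphisms.SchemeTheoreticallyDominant
import Mathlib.AlgebraicGeometry.Morphisms.Separated
import Mathlib.RingTheory.Filtration
import Mathlib.LinearAlgebra.TensorProduct.Finiteness
import Mathlib.LinearAlgebra.TensorProduct.Basis
import Mathlib.CategoryTheory.Monoidal.Cartesian.Over

/-!
# Rigidity for a factor without non-constant functions: local statements
-/

universe u

set_option backward.isDefEq.respectTransparency.types false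
set_option linter.style.haveILetI false

open CategoryTheory Limits AlgebraicGeometry MonoidalCategory CartesianMonoidalCategory
open scoped TensorProduct

namespace Groth.Agent.Rigid19

/-- If every morphism of spectra of stalks factors through a closed immersion, it is an isomorphism. -/
theorem ker_eq_bot_of_fromSpecStalk {E P : Scheme.{u}} (e : E ⟶ P) [QuasiCompact e]
    (h : ∀ p : P, ∃ c : Spec (P.presheaf.stalk p) ⟶ E, c ≫ e = P.fromSpecStalk p) : e.ker = ⊥ := by
  refine Scheme.IdealSheafData.ext (funext fun U => ?_)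
  rw [Scheme.Hom.ker_apply]
  simp only [Scheme.IdealSheafData.ideal_bot, Pi.bot_apply]
  refine eq_bot_iff.mpr fun s hs => ?_
  rw [RingHom.mem_ker] at hs
  refine P.IsSheaf.section_ext fun x hx => ?_
  have hgerm : P.presheaf.germ U.1 x hx s = 0 := by
    obtain ⟨c, hc⟩ := h x
    have h1 : (P.fromSpecStalk x).app U.1 s = 0 := by
      rw [← hc, Scheme.Hom.comp_app]
      exact (congrArg (c.app _) hs).trans (map_zero _)
    rw [Scheme.fromSpecStalk_app hx] at h1
    have htop : (P.fromSpecStalk x) ⁻¹ᵁ U.1 = ⊤ := IsLocalRing.closed_point_mem_iff.mp (by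
      show P.fromSpecStalk x _ ∈ U.1; rw [Scheme.fromSpecStalk_closedPoint]; exact hx)
    haveI : IsIso ((Spec (P.presheaf.stalk x)).presheaf.map (homOfLE le_top : (P.fromSpecStalk x) ⁻¹ᵁ U.1 ⟶ ⊤).op) := by
      generalize (homOfLE le_top : (P.fromSpecStalk x) ⁻¹ᵁ U.1 ⟶ ⊤) = i
      revert i; rw [htop]; intro i
      rw [Subsingleton.elim i (𝟙 _)]; infer_instance
    exact (map_eq_zero_iff _ (ConcreteCategory.bijective_of_isIso
      ((Scheme.ΓSpecIso (P.presheaf.stalk x)).inv ≫ (Spec (P.presheaf.stalk x)).presheaf.map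
        (homOfLE le_top : (P.fromSpecStalk x) ⁻¹ᵁ U.1 ⟶ ⊤).op)).1).mp h1
  obtain ⟨W, hW, i₁, i₂, e'⟩ := P.presheaf.germ_eq (X := P.toTopCat) x hx hx s 0 (by rw [hgerm, map_zero])
  exact ⟨W, i₁.le, hW, e'.trans ((map_zero (P.presheaf.map i₂.op).hom).trans (map_zero (P.presheaf.map i₁.op).hom).symm)⟩

variable {S : Scheme.{u}}

/-- An equalizer with trivial kernel gives equality. -/
theorem eq_of_equalizer_ker {P Z : Over S} [IsSeparated Z.hom] {f g : P ⟶ Z}
    (h0 : (equalizer.ι f g).left.ker = ⊥) : f = g := by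
  haveI : IsIso (equalizer.ι f g).left := IsClosedImmersion.isIso_iff_ker_eq_bot.2 h0
  ext1
  rw [← cancel_epi (equalizer.ι f g).left, ← Over.comp_left, ← Over.comp_left, equalizer.condition]

/-- Morphisms to a separated scheme that agree on all spectra of stalks agree. -/
theorem eq_of_fromSpecStalk {P Z : Over S} [IsSeparated Z.hom] {f g : P ⟶ Z}
    (h : ∀ p, P.left.fromSpecStalk p ≫ f.left = P.left.fromSpecStalk p ≫ g.left) : f = g := by
  refine eq_of_equalizer_ker (ker_eq_bot_of_fromSpecStalk _ fun p => ?_)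
  let q : Over.mk (P.left.fromSpecStalk p ≫ P.hom) ⟶ P := Over.homMk (P.left.fromSpecStalk p) rfl
  have hq : q ≫ f = q ≫ g := Over.OverMorphism.ext (h p)
  exact ⟨(equalizer.lift q hq).left, by rw [← Over.comp_left, equalizer.lift_ι]; rfl⟩

/-- Morphisms to a separated scheme agree if they agree after a scheme-theoretically dominant morphism. -/
theorem eq_of_dominant {Q P Z : Over S} [IsSeparated Z.hom] {f g : P ⟶ Z} (j : Q ⟶ P)
    [IsSchemeTheoreticallyDominant j.left] (h : j ≫ f = j ≫ g) : f = g := by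
  refine eq_of_equalizer_ker (eq_bot_iff.mpr ?_)
  rw [← j.left.ker_eq_bot, show j.left = (equalizer.lift j h).left ≫ (equalizer.ι f g).left by
    rw [← Over.comp_left, equalizer.lift_ι]]
  exact Scheme.Hom.le_ker_comp _ _

variable {k : Type u} [Field k]

/-- Tensoring over a field: an element vanishing modulo all powers of the maximal ideal vanishes. -/
theorem eq_zero_of_forall_pow (A R : Type u) [CommRing A] [Algebra k A] [CommRing R] [Algebra k R]
    [IsLocalRing R] [IsNoetherianRing R] (x : A ⊗[k] R)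
    (h : ∀ n : ℕ, Algebra.TensorProduct.map (AlgHom.id k A)
      (Ideal.Quotient.mkₐ k (IsLocalRing.maximalIdeal R ^ n)) x = 0) : x = 0 := by
  classical
  let b := Module.Free.chooseBasis k A
  refine (TensorProduct.equivFinsuppOfBasisLeft b).injective ?_
  rw [map_zero]
  refine Finsupp.ext fun i => ?_
  rw [Finsupp.zero_apply, ← Ideal.mem_bot, ← Ideal.iInf_pow_eq_bot_of_isLocalRing (IsLocalRing.maximalIdeal R)
    (IsLocalRing.maximalIdeal.isMaximal R).ne_top, Submodule.mem_iInf]
  intro n
  have key : ∀ z : A ⊗[k] R, Ideal.Quotient.mk (IsLocalRing.maximalIdeal R ^ n) (TensorProduct.equivFinsuppOfBasisLeft b z i) =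
      TensorProduct.equivFinsuppOfBasisLeft b (Algebra.TensorProduct.map (AlgHom.id k A)
        (Ideal.Quotient.mkₐ k (IsLocalRing.maximalIdeal R ^ n)) z) i := by
    intro z
    induction z using TensorProduct.induction_on with
    | zero => simp
    | add x y hx hy => simp [hx, hy]
    | tmul x y => simp [TensorProduct.equivFinsuppOfBasisLeft_apply_tmul_apply, Algebra.smul_def]
  rw [← Ideal.Quotient.eq_zero_iff_mem, key, h n, map_zero, Finsupp.zero_apply]

/-- The affine scheme over `k` of a ring map. -/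
noncomputable abbrev sp {R : CommRingCat.{u}} (φ : CommRingCat.of k ⟶ R) : Over (Spec (CommRingCat.of k)) :=
  Over.mk (Spec.map φ)

/-- The morphism of affine schemes over `k` of a ring map. -/
noncomputable abbrev spMap {R R' : CommRingCat.{u}} (φ : CommRingCat.of k ⟶ R) (ψ : R ⟶ R') :
    sp (φ ≫ ψ) ⟶ sp φ :=
  Over.homMk (Spec.map ψ) (by simp)

/-- Functions on an affine scheme times a noetherian local scheme are detected on the infinitesimal neighbourhoods. -/
theorem eq_of_infinitesimal_affine {A R : CommRingCat.{u}} (ψ : CommRingCat.of k ⟶ A) (φ : CommRingCat.of k ⟶ R)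
    [IsLocalRing R] [IsNoetherianRing R] {Z : Over (Spec (CommRingCat.of k))} [IsSeparated Z.hom]
    {f g : sp ψ ⊗ sp φ ⟶ Z}
    (h : ∀ n : ℕ, (sp ψ ◁ spMap φ (CommRingCat.ofHom (Ideal.Quotient.mk (IsLocalRing.maximalIdeal R ^ n)))) ≫ f =
      (sp ψ ◁ spMap φ (CommRingCat.ofHom (Ideal.Quotient.mk (IsLocalRing.maximalIdeal R ^ n)))) ≫ g) : f = g := by
  letI : Algebra k A := ψ.hom.toAlgebra
  letI : Algebra k R := φ.hom.toAlgebra
  let e := pullbackSpecIso k A R
  let e' : Spec (CommRingCat.of (A ⊗[k] R)) ≅ (sp ψ ⊗ sp φ).left := e.symm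
  haveI : IsAffine (sp ψ ⊗ sp φ).left := .of_isIso e'.inv
  refine eq_of_equalizer_ker ?_
  haveI : IsIso e'.hom := inferInstance
  let c := equalizer.ι f g
  haveI : IsClosedImmersion (c.left ≫ e'.inv) := inferInstance
  have hker : (c.left ≫ e'.inv).ker = ⊥ := by
    refine Scheme.IdealSheafData.ext_of_isAffine ?_
    rw [Scheme.Hom.ker_apply]
    simp only [Scheme.IdealSheafData.ideal_bot, Pi.bot_apply]
    refine eq_bot_iff.mpr fun s hs => ?_
    rw [RingHom.mem_ker] at hs
    rw [Ideal.mem_bot]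
    refine (Scheme.ΓSpecIso (CommRingCat.of (A ⊗[k] R))).commRingCatIsoToRingEquiv.injective ?_
    rw [map_zero]
    refine eq_zero_of_forall_pow A R _ fun n => ?_
    let π := spMap φ (CommRingCat.ofHom (Ideal.Quotient.mk (IsLocalRing.maximalIdeal R ^ n)))
    let l := equalizer.lift (sp ψ ◁ π) (h n)
    have hl : (sp ψ ◁ π).left = l.left ≫ c.left := by rw [← Over.comp_left, equalizer.lift_ι]
    let q := CommRingCat.ofHom (R := A ⊗[k] R) (S := A ⊗[k] (R ⧸ IsLocalRing.maximalIdeal R ^ n))
      (Algebra.TensorProduct.map (AlgHom.id k A) (Ideal.Quotient.mkₐ k (IsLocalRing.maximalIdeal R ^ n))).toRingHom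
    have hq : Spec.map q = ((pullbackSpecIso k A (R ⧸ IsLocalRing.maximalIdeal R ^ n)).inv ≫ l.left) ≫ c.left ≫ e'.inv := by
      rw [Category.assoc, ← Category.assoc l.left, ← hl]
      refine Eq.trans ((Iso.eq_comp_inv e').mpr ?_) (Category.assoc _ _ _)
      have w1 : (sp ψ ◁ π).left ≫ pullback.fst (Spec.map ψ) (Spec.map φ) = pullback.fst _ _ :=
        congrArg CommaMorphism.left (whiskerLeft_fst (sp ψ) π)
      have w2 : (sp ψ ◁ π).left ≫ pullback.snd (Spec.map ψ) (Spec.map φ) =
          pullback.snd _ _ ≫ Spec.map (CommRingCat.ofHom (Ideal.Quotient.mk (IsLocalRing.maximalIdeal R ^ n))) :=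
        congrArg CommaMorphism.left (whiskerLeft_snd (sp ψ) π)
      apply pullback.hom_ext
      · refine (Category.assoc _ _ _).trans ?_
        refine Eq.trans ?_ (((congrArg _ w1).symm).trans (Category.assoc _ _ _).symm)
        refine Eq.trans ?_ (pullbackSpecIso_inv_fst k A (R ⧸ IsLocalRing.maximalIdeal R ^ n)).symm
        refine (congrArg _ (pullbackSpecIso_inv_fst k A R)).trans ?_
        rw [← Spec.map_comp]
        congr 1
      · refine (Category.assoc _ _ _).trans ?_
        refine Eq.trans ?_ (((congrArg _ w2).symm).trans (Category.assoc _ _ _).symm)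
        refine Eq.trans ?_ (pullbackSpecIso_inv_snd_assoc k A (R ⧸ IsLocalRing.maximalIdeal R ^ n) _).symm
        refine (congrArg _ (pullbackSpecIso_inv_snd k A R)).trans ?_
        rw [← Spec.map_comp, ← Spec.map_comp]
        congr 1
    have h0 : (Spec.map q).app ⊤ s = 0 := by
      rw [hq, Scheme.Hom.comp_app]
      exact (congrArg (((pullbackSpecIso k A (R ⧸ IsLocalRing.maximalIdeal R ^ n)).inv ≫ l.left).app _) hs).trans (map_zero _)
    have h1 := ConcreteCategory.congr_hom (Scheme.ΓSpecIso_naturality q) s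
    exact h1.symm.trans ((congrArg (Scheme.ΓSpecIso (CommRingCat.of (A ⊗[k] (R ⧸ IsLocalRing.maximalIdeal R ^ n)))).hom h0).trans (map_zero _))
  have hc : c.left = (c.left ≫ e'.inv) ≫ e'.hom := by simp
  haveI : IsSchemeTheoreticallyDominant (c.left ≫ e'.inv) := ⟨hker⟩
  show c.left.ker = ⊥
  rw [hc]
  exact Scheme.Hom.ker_eq_bot _

end Groth.Agent.Rigid19
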